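import Groth.Agent.Models.RegSeqMin
import Groth.Agent.S3196
import Groth.Agent.Flat2H.KoszulBC

/-!
# Local algebra: base change of a regular sequence to a ring where it generates an ideal of the same codimension
-/

set_option autoImplicit false
universe u
open CategoryTheory CategoryTheory.Limits RingTheory.Sequence

namespace Groth.Agent.Krr.H489.RegAlg

open Groth.Agent Groth.Agent.Sga67.TorVanish

/-- `Tor_i^A(A/(l), B) = 0` for `i ≥ 1` if `l` is a regular sequence in `A`, `B` is a Noetherian local `A`-algebra
and the ideal `(l) B` is generated by a regular sequence `l'` of `B` with `l.length ≤ l'.length`. -/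
theorem tv_quotient_of_length_le {A B : Type u} [CommRing A] [CommRing B] [Algebra A B] [IsLocalRing B]
    [IsNoetherianRing B] (l : List A) (hl : IsWeaklyRegular A l) (l' : List B) (hl' : IsRegular B l')
    (h : (Ideal.ofList l).map (algebraMap A B) = Ideal.ofList l') (hlen : l.length ≤ l'.length) :
    TV (ModuleCat.of A (A ⧸ Ideal.ofList l)) (ModuleCat.of A B) := by
  have h1 : IsRegular B (l.map (algebraMap A B)) := by
    refine Models.RegSeqMin.isRegular_of_length_le hl' ?_ (by rw [List.length_map]; exact hlen)
    rw [← Ideal.map_ofList, h]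
  have h2 : LCI.IsKoszulRegularSeq B (l.map (algebraMap A B)) :=
    Flat2H.KoszulBC.isKoszulRegularSeq_of_isWeaklyRegular h1.toIsWeaklyRegular
  have h3 : LCI.IsKoszulRegularSeq A l := Flat2H.KoszulBC.isKoszulRegularSeq_of_isWeaklyRegular hl
  exact S3196.tv_quotient l h3 (ModuleCat.of A B) (Sga67.KoszulFun.isZero_homology_algebra B l h2)

end Groth.Agent.Krr.H489.RegAlg
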