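import Groth.Agent.Krr.H489.TorAdapted
import Groth.Agent.Krr.H489.RegAlg
import Groth.Agent.Sga67.KosGlobal
import Groth.Agent.Sga3C.QStalkKer
import Groth.Agent.Dcoh.PerfFlat
import Groth.Agent.CycB.PushStalk
import Groth.Prelude.Def_Mor2
import Groth.Prelude.Def_Omega2
import Mathlib.AlgebraicGeometry.PullbackCarrier

/-!
# Tor-independence for fibre squares of regular closed immersions of the same codimension

For a cartesian square `f : X ⟶ Y`, `ψ : X ⟶ P`, `φ : Y ⟶ M`, `F : P ⟶ M` with `F`, `f` regular closed immersions with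
conormal modules of the same rank, and `E` finite locally free on `P`, the module `F_* E` is Tor-independent of `φ`.
-/

set_option autoImplicit false
set_option linter.style.haveILetI false
universe u
open CategoryTheory CategoryTheory.Limits AlgebraicGeometry RingTheory.Sequence

namespace Groth.Agent.Krr.H489.PushTI

open Groth.Agent Groth.Agent.Sga67.TorVanish Groth.Agent.Krr.H489.TorAdapted
open Groth.Agent.Flat2D.PbStalk Groth.Agent.CycB.PushStalk
open Groth.Agent.Sga67.KosImm Groth.Agent.Sga67.KosStalk

/-- A module over `A` which is semilinearly isomorphic to a free module over a quotient of `A`. -/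
theorem nonempty_equiv {A C : Type u} [CommRing A] [CommRing C] (σ : A →+* C) (hσ : Function.Surjective σ)
    {W V : Type u} [AddCommGroup W] [Module A W] [AddCommGroup V] [Module C V] (g : W →ₛₗ[σ] V)
    (hg : Function.Bijective g) {n : ℕ} (b : Module.Basis (Fin n) C V) :
    Nonempty (W ≃ₗ[A] (Fin n → A ⧸ RingHom.ker σ)) := by
  let q := RingHom.quotientKerEquivOfSurjective hσ
  have hq : ∀ a : A, q.symm (σ a) = Ideal.Quotient.mk _ a := by
    intro a
    rw [RingEquiv.symm_apply_eq]
    rfl
  let T : W →ₗ[A] (Fin n → A ⧸ RingHom.ker σ) :=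
    { toFun := fun w k => q.symm (b.repr (g w) k)
      map_add' := fun w w' => by
        funext k
        simp only [map_add, Finsupp.add_apply, Pi.add_apply]
      map_smul' := fun a w => by
        funext k
        simp only [map_smulₛₗ, Finsupp.smul_apply, smul_eq_mul, map_mul, RingHom.id_apply, Pi.smul_apply, hq]
        exact (Algebra.smul_def a (q.symm (b.repr (g w) k))).symm }
  refine ⟨LinearEquiv.ofBijective T ⟨?_, ?_⟩⟩
  · intro w w' h
    apply hg.1
    apply b.repr.injective
    ext k
    exact q.symm.injective (congrFun h k)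
  · intro v
    obtain ⟨w, hw⟩ := hg.2 (b.equivFun.symm (fun k => q (v k)))
    refine ⟨w, ?_⟩
    funext k
    change q.symm (b.repr (g w) k) = v k
    rw [hw, ← Module.Basis.equivFun_apply, LinearEquiv.apply_symm_apply, RingEquiv.symm_apply_apply]

variable {P M : Scheme.{u}} (F : P ⟶ M)

/-- Tor-independence of the stalk of the direct image of a finite locally free module. -/
theorem tv_push [IsClosedImmersion F] {E : P.Modules} (hE : FlatMod.IsFinLocFree E) (p : P) {m : M}
    (hm : F p = m) (N : ModuleCat.{u} (M.presheaf.stalk m))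
    (h : TV (ModuleCat.of (M.presheaf.stalk m) (M.presheaf.stalk m ⧸ RingHom.ker (stalkTo F p hm).hom)) N) :
    TV (ModuleCat.of (M.presheaf.stalk m) (((Scheme.Modules.pushforward F).obj E).presheaf.stalk m)) N := by
  subst hm
  rw [stalkTo_rfl] at h
  obtain ⟨n, ⟨b⟩⟩ := Dcoh.PerfFlat.exists_basis_stalk hE p
  obtain ⟨e⟩ := nonempty_equiv (F.stalkMap p).hom (F.stalkMap_surjective p) (pushStalk F E p)
    (pushStalk_bijective F F.isClosedEmbedding.isInducing E p) b
  exact TV.of_iso (TV.pi h n) e.symm.toModuleIso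

variable {F}

/-- The stalk of the ideal of a regular closed immersion is generated by a regular sequence whose length is the rank of
the conormal module. -/
theorem exists_list (hF : Mor2.IsRegularClosedImmersion F) {d : ℕ}
    (hd : FlatMod.IsFinLocFreeOfRank d (Omega.conormal F)) (p : P) {m : M} (hm : F p = m) :
    ∃ l : List (M.presheaf.stalk m), l.length = d ∧ IsRegular (M.presheaf.stalk m) l ∧
      RingHom.ker (stalkTo F p hm).hom = Ideal.ofList l := by
  subst hm
  have : IsClosedImmersion F := hF.1
  obtain ⟨c, hc, -⟩ := exists_chart hF p ⊤ trivial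
  have hker : RingHom.ker (F.stalkMap p).hom = Ideal.ofList (c.l.map (gO M hc)) := by
    rw [c.ker_stalkMap hc, ← Ideal.map_ofList, Chart.ofList_eq_span, Ideal.map_span, ← Set.range_comp]
    rfl
  refine ⟨c.l.map (gO M hc), ?_, ⟨c.isWeaklyRegular_stalk hc, ?_⟩, ?_⟩
  · rw [List.length_map]
    exact Sga67.KosGlobal.length_eq hd c p hc
  · rw [← hker]
    intro h
    refine RingHom.ker_ne_top (F.stalkMap p).hom ?_
    rw [h]
    simp
  · rw [stalkTo_rfl, hker]

variable {X Y : Scheme.{u}} {φ : Y ⟶ M} {f : X ⟶ Y} {ψ : X ⟶ P}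

/-- Tor-independence for fibre squares of regular closed immersions of the same codimension. -/
theorem ti_push (hsq : IsPullback f ψ φ F) (hF : Mor2.IsRegularClosedImmersion F)
    (hf : Mor2.IsRegularClosedImmersion f) (d : ℕ)
    (hcF : FlatMod.IsFinLocFreeOfRank d (Omega.conormal F)) (hcf : FlatMod.IsFinLocFreeOfRank d (Omega.conormal f))
    [IsLocallyNoetherian Y] {E : P.Modules} (hE : FlatMod.IsFinLocFree E) :
    TI φ ((Scheme.Modules.pushforward F).obj E) := by
  have hFc : IsClosedImmersion F := hF.1
  intro y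
  by_cases hy : φ y ∈ Set.range F
  · obtain ⟨p, hp⟩ := hy
    obtain ⟨x, hx, -⟩ : ∃ x : X, f x = y ∧ ψ x = p := by
      obtain ⟨z, h1, h2⟩ := Scheme.Pullback.exists_preimage_pullback (f := φ) (g := F) y p hp.symm
      refine ⟨hsq.isoPullback.inv z, ?_, ?_⟩
      · rw [← Scheme.Hom.comp_apply, hsq.isoPullback_inv_fst, h1]
      · rw [← Scheme.Hom.comp_apply, hsq.isoPullback_inv_snd, h2]
    subst hx
    have hw : F (ψ x) = φ (f x) := by
      rw [← Scheme.Hom.comp_apply, ← Scheme.Hom.comp_apply, hsq.w]
    obtain ⟨l, hl, hlr, hlk⟩ := exists_list hF hcF (ψ x) hw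
    obtain ⟨l', hl', hlr', hlk'⟩ := exists_list hf hcf x rfl
    letI := (φ.stalkMap (f x)).hom.toAlgebra
    refine tv_push F hE (ψ x) hw _ ?_
    rw [hlk]
    refine RegAlg.tv_quotient_of_length_le l hlr.toIsWeaklyRegular l' hlr' ?_ (by rw [hl, hl'])
    rw [← hlk', ← hlk, stalkTo_rfl]
    exact (Sga3C.QStalkKer.ker_stalkMap_of_isPullback hsq x hw).symm
  · refine tiAt_of_subsingleton y (subsingleton_stalk_push F E (φ y) ?_)
    rw [F.isClosedEmbedding.isClosed_range.closure_eq]
    exact hy

end Groth.Agent.Krr.H489.PushTI
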