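import Groth.Agent.Krr.H489.PullRes
import Groth.Agent.Krr.H489.PushTI
import Groth.Agent.CohqA.AffineBaseChange
import Groth.Agent.PerfA.QCohEpi
import Groth.Prelude.Def_KRR

/-!
# Base change of finite locally free resolutions along squares of regular closed immersions of the same codimension
-/

set_option autoImplicit false
universe u
open CategoryTheory CategoryTheory.Limits AlgebraicGeometry

namespace Groth.Agent.Krr.H489.TorIndep

open Groth.Agent Groth.Agent.Krr.H489.TorAdapted Groth.Agent.Krr.H489.PullRes

/-- A resolution of a module is a resolution of any isomorphic module. -/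
theorem isLFRes_of_iso {X : Scheme.{u}} {M N : X.Modules} (e : M ≅ N) {n : ℕ} {L : ChainComplex X.Modules ℕ}
    {π : L ⟶ (ChainComplex.single₀ X.Modules).obj M} (h : KRR.IsLFRes M n L π) :
    KRR.IsLFRes N n L (π ≫ (ChainComplex.single₀ X.Modules).map e.hom) where
  finLocFree := h.finLocFree
  isZero := h.isZero
  quasiIso := by
    have := h.quasiIso
    infer_instance

variable {X Y P M : Scheme.{u}} {F : P ⟶ M} {φ : Y ⟶ M} {f : X ⟶ Y} {ψ : X ⟶ P}

/-- Base change for the direct image of a finite locally free module along a closed immersion. -/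
theorem nonempty_baseChange (hsq : IsPullback f ψ φ F) [IsClosedImmersion F] {E : P.Modules}
    (hE : FlatMod.IsFinLocFree E) :
    Nonempty ((Scheme.Modules.pullback φ).obj ((Scheme.Modules.pushforward F).obj E) ≅
      (Scheme.Modules.pushforward f).obj ((Scheme.Modules.pullback ψ).obj E)) := by
  have : Coh.IsQCoh E := PerfA.QCohEpi.isQCoh_of_isFinLocFree hE
  exact CohqA.AffineBaseChange.nonempty_iso hsq.flip E

/-- **Tor-independence**: for a cartesian square of regular closed immersions of the same codimension, the pull-back of a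
finite locally free resolution `L → F_* E` is a finite locally free resolution `φ^* L → f_* ψ^* E`. -/
theorem exists_isLFRes (hsq : IsPullback f ψ φ F) (hF : Mor2.IsRegularClosedImmersion F)
    (hf : Mor2.IsRegularClosedImmersion f) (d : ℕ)
    (hcF : FlatMod.IsFinLocFreeOfRank d (Omega.conormal F)) (hcf : FlatMod.IsFinLocFreeOfRank d (Omega.conormal f))
    [IsLocallyNoetherian Y] {E : P.Modules} (hE : FlatMod.IsFinLocFree E) {n : ℕ} {L : ChainComplex M.Modules ℕ}
    {π : L ⟶ (ChainComplex.single₀ M.Modules).obj ((Scheme.Modules.pushforward F).obj E)}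
    (h : KRR.IsLFRes ((Scheme.Modules.pushforward F).obj E) n L π) :
    ∃ π' : pullCx φ L ⟶ (ChainComplex.single₀ Y.Modules).obj
        ((Scheme.Modules.pushforward f).obj ((Scheme.Modules.pullback ψ).obj E)),
      KRR.IsLFRes ((Scheme.Modules.pushforward f).obj ((Scheme.Modules.pullback ψ).obj E)) n (pullCx φ L) π' := by
  have : IsClosedImmersion F := hF.1
  obtain ⟨e⟩ := nonempty_baseChange hsq hE
  exact ⟨_, isLFRes_of_iso e (isLFRes_pullback h (PushTI.ti_push hsq hF hf d hcF hcf hE))⟩

end Groth.Agent.Krr.H489.TorIndep
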