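import Groth.Agent.Krr.H489.TorAdapted
import Groth.Agent.Cohder.MapExtend
import Groth.Agent.Dcoh.Spread
import Groth.Prelude.Def_KRR
import Mathlib.Algebra.Homology.Embedding.CochainComplex

/-!
# Pull-back of finite locally free resolutions of modules Tor-independent of the morphism

* `quasiIso_map_chain`: a right exact functor preserves quasi-isomorphisms between chain complexes (indexed by `ℕ`) with
  terms in an adapted class.
* `isLFRes_pullback`: if `L → M` is a finite locally free resolution and `M` is Tor-independent of `φ`, then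
  `φ^* L → φ^* M` is a finite locally free resolution.
-/

set_option autoImplicit false
universe w v₁ v₂ u₁ u₂ u
open CategoryTheory CategoryTheory.Limits AlgebraicGeometry HomologicalComplex

namespace Groth.Agent.Krr.H489.PullRes

open Groth.Agent Groth.Agent.PerfC.AcyclicBdd Groth.Agent.Krr.H489.TorAdapted

section Abstract

variable {A : Type u₁} [Category.{v₁} A] [Abelian A] {B : Type u₂} [Category.{v₂} B] [Abelian B]
variable {F : A ⥤ B} [F.Additive] {P : ObjectProperty A}

theorem extend_prop (h : Adapted F P) (K : ChainComplex A ℕ) (hK : ∀ i, P (K.X i)) (i' : ℤ) :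
    P ((K.extend ComplexShape.embeddingDownNat).X i') := by
  by_cases hi : ∃ i, ComplexShape.embeddingDownNat.f i = i'
  · obtain ⟨i, hi⟩ := hi
    exact h.of_iso (K.extendXIso ComplexShape.embeddingDownNat hi).symm (hK i)
  · exact h.zero _ (K.isZero_extend_X ComplexShape.embeddingDownNat i' (fun i hi' => hi ⟨i, hi'⟩))

theorem extend_isZero (K : ChainComplex A ℕ) (i' : ℤ) (hi : 0 < i') :
    IsZero ((K.extend ComplexShape.embeddingDownNat).X i') := by
  refine K.isZero_extend_X ComplexShape.embeddingDownNat i' (fun i hi' => ?_)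
  simp at hi'
  omega

theorem quasiIso_map_chain [PreservesFiniteColimits F] (h : Adapted F P)
    (hbi : ∀ X Y : A, P X → P Y → P (X ⊞ Y)) {K L : ChainComplex A ℕ} (φ : K ⟶ L) [hφ : QuasiIso φ]
    (hK : ∀ i, P (K.X i)) (hL : ∀ i, P (L.X i)) :
    QuasiIso ((F.mapHomologicalComplex (ComplexShape.down ℕ)).map φ) := by
  have h1 : QuasiIso (extendMap φ ComplexShape.embeddingDownNat) := by
    rw [quasiIso_extendMap_iff]
    exact hφ
  have h2 := h.quasiIso_map hbi (extendMap φ ComplexShape.embeddingDownNat) 0
    (fun i hi => extend_isZero K i hi) (fun i hi => extend_isZero L i hi)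
    (fun i => extend_prop h K hK i) (fun i => extend_prop h L hL i)
  rw [← quasiIso_extendMap_iff _ ComplexShape.embeddingDownNat]
  have h3 := Cohder.MapExtend.mapExtendIso_hom_naturality F ComplexShape.embeddingDownNat φ
  have h4 : QuasiIso ((F.mapHomologicalComplex (ComplexShape.up ℤ)).map
      (extendMap φ ComplexShape.embeddingDownNat) ≫
        (Cohder.MapExtend.mapExtendIso F L ComplexShape.embeddingDownNat).hom) := inferInstance
  rw [h3] at h4
  exact (quasiIso_iff_comp_left (Cohder.MapExtend.mapExtendIso F K ComplexShape.embeddingDownNat).hom _).1 h4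

end Abstract

variable {X Y : Scheme.{u}} {φ : Y ⟶ X}

/-- The pull-back of a resolution. -/
noncomputable abbrev pullCx (φ : Y ⟶ X) (L : ChainComplex X.Modules ℕ) : ChainComplex Y.Modules ℕ :=
  ((Scheme.Modules.pullback φ).mapHomologicalComplex (ComplexShape.down ℕ)).obj L

/-- The augmentation of the pull-back of a resolution. -/
noncomputable def pullAug (φ : Y ⟶ X) {L : ChainComplex X.Modules ℕ} {M : X.Modules}
    (π : L ⟶ (ChainComplex.single₀ X.Modules).obj M) :
    pullCx φ L ⟶ (ChainComplex.single₀ Y.Modules).obj ((Scheme.Modules.pullback φ).obj M) :=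
  ((Scheme.Modules.pullback φ).mapHomologicalComplex (ComplexShape.down ℕ)).map π ≫
    (HomologicalComplex.singleMapHomologicalComplex (Scheme.Modules.pullback φ) (ComplexShape.down ℕ) 0).hom.app M

theorem ti_single {M : X.Modules} (hM : TI φ M) (i : ℕ) :
    TI φ (((ChainComplex.single₀ X.Modules).obj M).X i) := by
  cases i with
  | zero => exact hM
  | succ n => exact ti_of_isZero (HomologicalComplex.isZero_single_obj_X _ _ _ _ (by simp))

/-- The pull-back of a finite locally free resolution of a module Tor-independent of `φ`. -/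
theorem isLFRes_pullback {M : X.Modules} {n : ℕ} {L : ChainComplex X.Modules ℕ}
    {π : L ⟶ (ChainComplex.single₀ X.Modules).obj M} (h : KRR.IsLFRes M n L π) (hM : TI φ M) :
    KRR.IsLFRes ((Scheme.Modules.pullback φ).obj M) n (pullCx φ L) (pullAug φ π) where
  finLocFree i := PerfB.FlatPull.isFinLocFree_pullback φ (h.finLocFree i)
  isZero i hi := Functor.map_isZero _ (h.isZero i hi)
  quasiIso := by
    have := h.quasiIso
    have h1 := quasiIso_map_chain (adapted φ) (fun _ _ => ti_biprod) π
      (fun i => ti_of_isFlat (Dcoh.Spread.isFlat_of_isFinLocFree (h.finLocFree i))) (ti_single hM)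
    unfold pullAug
    infer_instance

end Groth.Agent.Krr.H489.PullRes
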