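import Groth.Agent.Krr.H489.TorIndep
import Groth.Agent.Krr.H446.ProjFormula
import Groth.Agent.Krr.H482.PullLambda
import Groth.Agent.Krr.H473.QProj
import Groth.Agent.S1110

/-!
# Products of classes of regularly embedded subschemes meeting regularly
-/

set_option autoImplicit false
universe v w u
open CategoryTheory CategoryTheory.Limits AlgebraicGeometry

namespace Groth.Agent.Krr.H489.MeetReg

open Groth.Agent Groth.Agent.Krr.H489.PullRes Groth.Agent.Krr.H489.TorIndep

/-- Schemes affine over a quasi-compact quasi-separated scheme with enough finite locally free modules have enough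
finite locally free modules. -/
theorem hasEnoughLocFree_of_isAffineHom {Z X : Scheme.{u}} (j : Z ⟶ X) [IsAffineHom j] [CompactSpace ↥X]
    [QuasiSeparatedSpace ↥X] (hX : KRR.HasEnoughLocFree X) : KRR.HasEnoughLocFree Z :=
  (Krr.H473.QProj.hasEnoughLocFree_iff Z).2
    (S1110.result j ((Krr.H473.QProj.hasEnoughLocFree_iff X).1 hX))

/-- Schemes closed in a Noetherian scheme are Noetherian. -/
theorem isNoetherian_of_isClosedImmersion {Z X : Scheme.{u}} (j : Z ⟶ X) [IsClosedImmersion j] [IsNoetherian X] :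
    IsNoetherian Z := by
  have h1 : IsLocallyNoetherian Z := LocallyOfFiniteType.isLocallyNoetherian j
  have h2 : CompactSpace Z := QuasiCompact.compactSpace_of_compactSpace j
  exact {}

variable {X Y P M : Scheme.{u}} {F : P ⟶ M} {φ : Y ⟶ M} {f : X ⟶ Y} {ψ : X ⟶ P}

/-- `φ^K F_K [E] = f_K ψ^K [E]` for finite locally free `E` such that `F_* E` has a finite locally free resolution. -/
theorem pull_pushCl_cl (hsq : IsPullback f ψ φ F) (hF : Mor2.IsRegularClosedImmersion F)
    (hf : Mor2.IsRegularClosedImmersion f) (d : ℕ)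
    (hcF : FlatMod.IsFinLocFreeOfRank d (Omega.conormal F)) (hcf : FlatMod.IsFinLocFreeOfRank d (Omega.conormal f))
    [IsLocallyNoetherian Y] {KX KY KP KM : Type*} [CommRing KX] [CommRing KY] [CommRing KP] [CommRing KM]
    {φX : SGA6.Kvb X →+ KX} {φY : SGA6.Kvb Y →+ KY} {φP : SGA6.Kvb P →+ KP} {φM : SGA6.Kvb M →+ KM}
    {gφ : KM →+ KY} (hgφ : KRR.IsPull φ φM φY gφ) {gF : KP →+ KM} (hgF : KRR.IsPushCl F φP φM gF)
    {gf : KX →+ KY} (hgf : KRR.IsPushCl f φX φY gf) {E : P.Modules} (hE : FlatMod.IsFinLocFree E)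
    (hres : KRR.HasLFRes ((Scheme.Modules.pushforward F).obj E)) :
    gφ (gF (φP (KRR.cl P E))) = gf (φX (KRR.cl X ((Scheme.Modules.pullback ψ).obj E))) := by
  obtain ⟨n, L, π, h⟩ := hres
  obtain ⟨π', h'⟩ := exists_isLFRes hsq hF hf d hcF hcf hE h
  rw [hgF E hE n L π h, hgf _ (PerfB.FlatPull.isFinLocFree_pullback ψ hE) n _ π' h', map_sum]
  refine Finset.sum_congr rfl fun k _ => ?_
  rw [map_zsmul, hgφ (L.X k) (h.finLocFree k)]
  rfl

end Groth.Agent.Krr.H489.MeetReg
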