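import Groth.Agent.Krr.H489.MeetReg
import Groth.Agent.Krr.H498.PushCl
import Groth.Agent.Krr.H482.PullTens

/-!
# `[O_Y] · [O_Z] = [O_{Y ∩ Z}]` for regularly embedded subschemes meeting regularly
-/

set_option autoImplicit false
universe v w u
open CategoryTheory CategoryTheory.Limits AlgebraicGeometry

namespace Groth.Agent.Krr.H489.MeetReg2

open Groth.Agent Groth.Agent.Krr.H489.PullRes Groth.Agent.Krr.H489.TorIndep Groth.Agent.Krr.H489.MeetReg
open Groth.Agent.Krr.H498.ResCat Groth.Agent.Krr.H498.LFRes Groth.Agent.Krr.H498.ResPerf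
open Groth.Agent.Krr.H498.ResClass Groth.Agent.Krr.H498.PushCl

section

variable {Z X : Scheme.{u}} [CompactSpace X] [QuasiSeparatedSpace X] (hX : KRR.HasEnoughLocFree X)
variable (j : Z ⟶ X) [IsClosedImmersion j]

/-- Dévissage: the class of the direct image of a module with a finite locally free resolution. -/
theorem rcl_push_of_res (hj : GoodPush j) {n : ℕ} {G : Z.Modules} {c : SGA6.Kvb Z}
    (h : Res (KRR.vbP Z) n G c) :
    KRR.HasLFRes ((Scheme.Modules.pushforward j).obj G) ∧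
      rcl hX ((Scheme.Modules.pushforward j).obj G) = pushK j hX hj c := by
  induction h with
  | zero M hM => exact ⟨hj M hM, (pushK_cl j hX hj hM).symm⟩
  | succ n S hS h₂ c h ih =>
    have hS' := shortExact_push j hS
    have h3 : KRR.HasLFRes ((Scheme.Modules.pushforward j).obj S.X₃) :=
      hasLFRes_X₃ hX hS' ih.1 (hj _ h₂)
    refine ⟨h3, ?_⟩
    have h4 := rcl_shortExact hX hS' ih.1 (hj _ h₂) h3
    have h5 : rcl hX ((Scheme.Modules.pushforward j).obj S.X₂) =
        rcl hX ((Scheme.Modules.pushforward j).obj S.X₁) + rcl hX ((Scheme.Modules.pushforward j).obj S.X₃) := h4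
    rw [map_sub, pushK_cl j hX hj h₂, h5, ih.2]
    abel

end

theorem meet {X Y Z W : Scheme.{u}} [IsNoetherian X] (hXe : KRR.HasEnoughLocFree X)
    (i : Y ⟶ X) (hi : Mor2.IsRegularClosedImmersion i) (j : Z ⟶ X) (hj : Mor2.IsRegularClosedImmersion j)
    (h : W ⟶ Y) (g : W ⟶ Z) (hsq : IsPullback g h j i) (hg : Mor2.IsRegularClosedImmersion g)
    (d : ℕ) (hci : FlatMod.IsFinLocFreeOfRank d (Omega.conormal i))
    (hcg : FlatMod.IsFinLocFreeOfRank d (Omega.conormal g))
    {KX : Type v} [CommRing KX] [LambdaRing.LambdaOps KX] {PX : LambdaRing.PosStructure KX} {φX : SGA6.Kvb X →+ KX}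
    (hKX : KRR.IsModel X KX PX φX)
    {KY : Type v} [CommRing KY] [LambdaRing.LambdaOps KY] {PY : LambdaRing.PosStructure KY} {φY : SGA6.Kvb Y →+ KY}
    (hKY : KRR.IsModel Y KY PY φY)
    {KZ : Type v} [CommRing KZ] [LambdaRing.LambdaOps KZ] {PZ : LambdaRing.PosStructure KZ} {φZ : SGA6.Kvb Z →+ KZ}
    (hKZ : KRR.IsModel Z KZ PZ φZ)
    {KW : Type v} [CommRing KW] [LambdaRing.LambdaOps KW] {PW : LambdaRing.PosStructure KW} {φW : SGA6.Kvb W →+ KW}
    (hKW : KRR.IsModel W KW PW φW)
    (a : KY →+ KX) (ha : KRR.IsPushCl i φY φX a) (b : KZ →+ KX) (hb : KRR.IsPushCl j φZ φX b)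
    (c : KW →+ KX) (hc : KRR.IsPushCl (g ≫ j) φW φX c) :
    a 1 * b 1 = c 1 := by
  have : IsClosedImmersion i := hi.1
  have : IsClosedImmersion j := hj.1
  have : IsClosedImmersion g := hg.1
  have : IsNoetherian Z := isNoetherian_of_isClosedImmersion j
  have gj : GoodPush j := goodPush_of_regular j hXe hj
  obtain ⟨jK, hjK⟩ := Krr.H482.PullLambda.exists_isPull j hKX.bijective φZ
  -- the projection formula
  have e1 : b (1 * jK (a 1)) = b 1 * a 1 :=
    Krr.H446.ProjFormula.pushCl_mul_pull_of_hasLFRes j gj hKZ hKX hjK hb 1 (a 1)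
  -- a resolution of `i_* O_Y`
  have hO : FlatMod.IsFinLocFree (Coh.structureModule Y) := Sga67.TensorOps.isFinLocFree_structureModule
  have hOW : FlatMod.IsFinLocFree (Coh.structureModule W) := Sga67.TensorOps.isFinLocFree_structureModule
  obtain ⟨n, L, π, hL⟩ := goodPush_of_regular i hXe hi _ hO
  obtain ⟨π', hL'⟩ := exists_isLFRes hsq hi hg d hci hcg hO hL
  have e2 : jK (a 1) = φZ (∑ k ∈ Finset.range (n + 1), (-1 : ℤ) ^ k • KRR.cl Z ((pullCx j L).X k)) := by
    rw [← hKY.map_one, ha _ hO n L π hL, map_sum, map_sum]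
    refine Finset.sum_congr rfl fun k _ => ?_
    rw [map_zsmul, map_zsmul, hjK (L.X k) (hL.finLocFree k)]
    rfl
  -- the direct image along `j`
  obtain ⟨h3, h4⟩ := rcl_push_of_res hXe j gj (res_of_isLFRes hL')
  have e3 : b (jK (a 1)) = φX (rcl hXe ((Scheme.Modules.pushforward j).obj
      ((Scheme.Modules.pushforward g).obj ((Scheme.Modules.pullback h).obj (Coh.structureModule Y))))) := by
    rw [e2, isPushCl_apply j hXe φZ φX gj hb, h4]
  let e : (Scheme.Modules.pushforward j).obj ((Scheme.Modules.pushforward g).obj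
      ((Scheme.Modules.pullback h).obj (Coh.structureModule Y))) ≅
      (Scheme.Modules.pushforward (g ≫ j)).obj (Coh.structureModule W) :=
    (Scheme.Modules.pushforward j).mapIso ((Scheme.Modules.pushforward g).mapIso (Krr.H482.PullTens.pullUnitIso h)) ≪≫
      (Scheme.Modules.pushforwardComp g j).app _
  have h5 : KRR.HasLFRes ((Scheme.Modules.pushforward (g ≫ j)).obj (Coh.structureModule W)) :=
    Krr.H446.TensRes.hasLFRes_iso e h3
  have e4 : c 1 = φX (rcl hXe ((Scheme.Modules.pushforward (g ≫ j)).obj (Coh.structureModule W))) := by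
    obtain ⟨m, N, ρ, hN⟩ := h5
    rw [← hKW.map_one, hc _ hOW m N ρ hN, rcl_eq_sum hXe hN, map_sum]
    exact Finset.sum_congr rfl fun k _ => (map_zsmul φX _ _).symm
  rw [e4, ← rcl_iso hXe e h3, ← e3, mul_comm, ← e1, one_mul]

end Groth.Agent.Krr.H489.MeetReg2
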