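import Groth.Agent.PerfC.AcyclicBdd
import Groth.Agent.PerfC.RelFlat
import Groth.Agent.Sga67.TorVanish
import Groth.Agent.Ega3A.TorLES

/-!
# Modules Tor-independent of a morphism

For `φ : Y ⟶ X` and an `O_X`-module `N`: `TI φ N` means `Tor_i^{O_{X, φ y}}(N_{φ y}, O_{Y,y}) = 0` for all `i ≥ 1` and
all points `y` of `Y`.  This class is adapted to the pullback `φ^*` (`AcyclicBdd.Adapted`).
-/

set_option autoImplicit false
set_option linter.style.haveILetI false
universe u
open CategoryTheory CategoryTheory.Limits AlgebraicGeometry TensorProduct MonoidalCategory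

namespace Groth.Agent.Krr.H489.TorAdapted

open Groth.Agent Groth.Agent.CycB.StalkExact Groth.Agent.Fdesc.PullbackStalk
open Groth.Agent.Sga67.TorVanish

section Algebra

variable {A : Type u} [CommRing A]

theorem mono_whiskerRight {S : ShortComplex (ModuleCat.{u} A)} (hS : S.ShortExact) (N : ModuleCat.{u} A)
    (h : TV S.X₃ N) : Mono (S.f ▷ N) :=
  (Ega3A.TorLES.exact_δ₁Zero hS N).mono_g ((h 1 le_rfl).eq_of_src _ _)

theorem baseChange_injective {B : Type u} [CommRing B] [Algebra A B] {M N Q : Type u} [AddCommGroup M]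
    [Module A M] [AddCommGroup N] [Module A N] [AddCommGroup Q] [Module A Q]
    (i : M →ₗ[A] N) (π : N →ₗ[A] Q) (hi : Function.Injective i) (hex : Function.Exact i π)
    (hπ : Function.Surjective π) (h : TV (ModuleCat.of A Q) (ModuleCat.of A B)) :
    Function.Injective (i.baseChange B) := by
  let S : ShortComplex (ModuleCat.{u} A) := ShortComplex.mk (ModuleCat.ofHom i) (ModuleCat.ofHom π)
    (by ext x; exact hex.apply_apply_eq_zero x)
  have hS : S.ShortExact :=
    { exact := (ShortComplex.ShortExact.moduleCat_exact_iff_function_exact S).2 hex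
      mono_f := (ModuleCat.mono_iff_injective _).2 hi
      epi_g := (ModuleCat.epi_iff_surjective _).2 hπ }
  have h1 : Function.Injective (i.rTensor B) :=
    (ModuleCat.mono_iff_injective _).1 (mono_whiskerRight hS (ModuleCat.of A B) h)
  have h2 : Function.Injective (i.lTensor B) := (LinearMap.lTensor_inj_iff_rTensor_inj B i).2 h1
  exact h2

theorem TV_of_flat (M N : Type u) [AddCommGroup M] [Module A M] [AddCommGroup N] [Module A N] [Module.Flat A M] :
    TV (ModuleCat.of A M) (ModuleCat.of A N) := by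
  intro i hi
  obtain ⟨n, rfl⟩ : ∃ n, i = n + 1 := ⟨i - 1, by omega⟩
  exact Ega3A.TorLES.isZero_tor_of_flat_left (ModuleCat.of A M) (ModuleCat.of A N) n

theorem TV_left {M N Q P : Type u} [AddCommGroup M] [Module A M] [AddCommGroup N] [Module A N] [AddCommGroup Q]
    [Module A Q] [AddCommGroup P] [Module A P] (i : M →ₗ[A] N) (π : N →ₗ[A] Q) (hi : Function.Injective i)
    (hex : Function.Exact i π) (hπ : Function.Surjective π)
    (h2 : TV (ModuleCat.of A N) (ModuleCat.of A P)) (h3 : TV (ModuleCat.of A Q) (ModuleCat.of A P)) :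
    TV (ModuleCat.of A M) (ModuleCat.of A P) := by
  let S : ShortComplex (ModuleCat.{u} A) := ShortComplex.mk (ModuleCat.ofHom i) (ModuleCat.ofHom π)
    (by ext x; exact hex.apply_apply_eq_zero x)
  have hS : S.ShortExact :=
    { exact := (ShortComplex.ShortExact.moduleCat_exact_iff_function_exact S).2 hex
      mono_f := (ModuleCat.mono_iff_injective _).2 hi
      epi_g := (ModuleCat.epi_iff_surjective _).2 hπ }
  exact TV.left hS h2 h3

theorem TV_middle {M N Q P : Type u} [AddCommGroup M] [Module A M] [AddCommGroup N] [Module A N] [AddCommGroup Q]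
    [Module A Q] [AddCommGroup P] [Module A P] (i : M →ₗ[A] N) (π : N →ₗ[A] Q) (hi : Function.Injective i)
    (hex : Function.Exact i π) (hπ : Function.Surjective π)
    (h1 : TV (ModuleCat.of A M) (ModuleCat.of A P)) (h3 : TV (ModuleCat.of A Q) (ModuleCat.of A P)) :
    TV (ModuleCat.of A N) (ModuleCat.of A P) := by
  let S : ShortComplex (ModuleCat.{u} A) := ShortComplex.mk (ModuleCat.ofHom i) (ModuleCat.ofHom π)
    (by ext x; exact hex.apply_apply_eq_zero x)
  have hS : S.ShortExact :=
    { exact := (ShortComplex.ShortExact.moduleCat_exact_iff_function_exact S).2 hex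
      mono_f := (ModuleCat.mono_iff_injective _).2 hi
      epi_g := (ModuleCat.epi_iff_surjective _).2 hπ }
  exact TV.middle hS h1 h3

end Algebra

variable {X Y : Scheme.{u}} (φ : Y ⟶ X)

/-- `N` is Tor-independent of `φ` at the point `y`. -/
def TIAt (N : X.Modules) (y : Y) : Prop :=
  letI := (φ.stalkMap y).hom.toAlgebra
  TV (ModuleCat.of (X.presheaf.stalk (φ.base y)) (N.presheaf.stalk (φ.base y)))
    (ModuleCat.of (X.presheaf.stalk (φ.base y)) (Y.presheaf.stalk y))

/-- `N` is Tor-independent of `φ`. -/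
def TI (N : X.Modules) : Prop := ∀ y : Y, TIAt φ N y

variable {φ}

theorem tiAt_left {S : ShortComplex X.Modules} (hS : S.ShortExact) (y : Y) (h2 : TIAt φ S.X₂ y)
    (h3 : TIAt φ S.X₃ y) : TIAt φ S.X₁ y := by
  obtain ⟨e1, e2, e3⟩ := stalkLin_shortExact S hS (φ.base y)
  letI := (φ.stalkMap y).hom.toAlgebra
  exact TV_left _ _ e1 e2 e3 h2 h3

theorem tiAt_middle {S : ShortComplex X.Modules} (hS : S.ShortExact) (y : Y) (h1 : TIAt φ S.X₁ y)
    (h3 : TIAt φ S.X₃ y) : TIAt φ S.X₂ y := by
  obtain ⟨e1, e2, e3⟩ := stalkLin_shortExact S hS (φ.base y)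
  letI := (φ.stalkMap y).hom.toAlgebra
  exact TV_middle _ _ e1 e2 e3 h1 h3

theorem tiAt_of_isFlatAt {N : X.Modules} (y : Y) (h : FlatMod.IsFlatAt N (φ.base y)) : TIAt φ N y := by
  letI := (φ.stalkMap y).hom.toAlgebra
  haveI : Module.Flat (X.presheaf.stalk (φ.base y)) (N.presheaf.stalk (φ.base y)) := h
  exact TV_of_flat _ _

theorem ti_of_isFlat {N : X.Modules} (h : FlatMod.IsFlat N) : TI φ N := fun y => tiAt_of_isFlatAt y (h _)

theorem tiAt_of_subsingleton {N : X.Modules} (y : Y) (h : Subsingleton (N.presheaf.stalk (φ.base y))) :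
    TIAt φ N y :=
  tiAt_of_isFlatAt y (inferInstance : Module.Flat (X.presheaf.stalk (φ.base y)) (N.presheaf.stalk (φ.base y)))

theorem tiAt_of_iso {N N' : X.Modules} (e : N ≅ N') (y : Y) (h : TIAt φ N y) : TIAt φ N' y := by
  letI := (φ.stalkMap y).hom.toAlgebra
  exact TV.of_iso h (stalkLinEquiv e (φ.base y)).toModuleIso

theorem ti_of_iso {N N' : X.Modules} (e : N ≅ N') (h : TI φ N) : TI φ N' := fun y => tiAt_of_iso e y (h y)

theorem ti_of_isZero {N : X.Modules} (h : IsZero N) : TI φ N := fun y =>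
  tiAt_of_subsingleton y ((PerfB.FlatPull.isZero_iff_subsingleton N).mp h _)

theorem ti_biprod {M N : X.Modules} (hM : TI φ M) (hN : TI φ N) : TI φ (M ⊞ N) := fun y =>
  tiAt_middle (S := ShortComplex.mk (biprod.inl : M ⟶ M ⊞ N) biprod.snd (by simp))
    (ShortComplex.Splitting.shortExact { r := biprod.fst, s := biprod.inr }) y (hM y) (hN y)

theorem mono_pullback_map {S : ShortComplex X.Modules} (hS : S.ShortExact) (h3 : TI φ S.X₃) :
    Mono ((Scheme.Modules.pullback φ).map S.f) := by
  apply PerfB.FlatPull.mono_of_stalkLin_injective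
  intro z
  obtain ⟨e1, e2, e3⟩ := stalkLin_shortExact S hS (φ.base z)
  letI := stalkAlg φ z
  have key : Function.Injective ((stalkLin S.f (φ.base z)).baseChange (Y.presheaf.stalk z)) :=
    baseChange_injective (stalkLin S.f (φ.base z)) (stalkLin S.g (φ.base z)) e1 e2 e3 (h3 z)
  letI := FlatMod.moduleStalkOver φ ((Scheme.Modules.pullback φ).obj S.X₁) z
  haveI := isScalarTower φ ((Scheme.Modules.pullback φ).obj S.X₁) z
  letI := FlatMod.moduleStalkOver φ ((Scheme.Modules.pullback φ).obj S.X₂) z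
  haveI := isScalarTower φ ((Scheme.Modules.pullback φ).obj S.X₂) z
  have hc : ∀ x, stalkLin ((Scheme.Modules.pullback φ).map S.f) z (stalkPullbackEquiv φ S.X₁ z x) =
      stalkPullbackEquiv φ S.X₂ z ((stalkLin S.f (φ.base z)).baseChange (Y.presheaf.stalk z) x) := by
    intro x
    induction x with
    | zero => simp
    | add a b ha hb => simp only [map_add, ha, hb]
    | tmul t m =>
      rw [stalkPullbackEquiv_tmul, LinearMap.baseChange_tmul, stalkPullbackEquiv_tmul, map_smul,
        PerfB.FlatPull.stalkLin_pullback_canAdd]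
  intro x y hxy
  obtain ⟨x, rfl⟩ := (stalkPullbackEquiv φ S.X₁ z).surjective x
  obtain ⟨y, rfl⟩ := (stalkPullbackEquiv φ S.X₁ z).surjective y
  rw [hc, hc] at hxy
  rw [key ((stalkPullbackEquiv φ S.X₂ z).injective hxy)]

variable (φ) in
/-- The class of modules Tor-independent of `φ` is adapted to `φ^*`. -/
theorem adapted : PerfC.AcyclicBdd.Adapted (Scheme.Modules.pullback φ) (TI φ) where
  zero _ h := ti_of_isZero h
  ker _ hS h2 h3 y := tiAt_left hS y (h2 y) (h3 y)
  mono _ hS h3 := mono_pullback_map hS h3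

end Groth.Agent.Krr.H489.TorAdapted
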